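import Mathlib.CategoryTheory.Functor.Derived.PointwiseRightDerived
import Mathlib.Algebra.Homology.DerivedCategory.KInjective
import Groth.Agent.DHA.KInjectiveResolution

/-!
Right derived functors from objects with liftable maps; K-injective complexes provide them.
-/

universe w v₁ v₂ v₃ v₄ u₁ u₂ u₃ u₄

open CategoryTheory CategoryTheory.Limits

namespace Groth.Agent.DTrunc.RightDerived

variable {C : Type u₁} {D : Type u₂} {H : Type u₃} [Category.{v₁} C] [Category.{v₂} D]
  [Category.{v₃} H] (L : C ⥤ D) (F : C ⥤ H)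

/-- Maps into `L P` lift to `C`, and `F` cannot tell two lifts apart. -/
structure IsGood (P : C) : Prop where
  fac : ∀ ⦃Y : C⦄ (φ : L.obj Y ⟶ L.obj P), ∃ g : Y ⟶ P, L.map g = φ
  eq : ∀ ⦃Y : C⦄ (g g' : Y ⟶ P), L.map g = L.map g' → F.map g = F.map g'

variable {L F}

theorem IsGood.comp {H' : Type u₄} [Category.{v₄} H'] {P : C} (hP : IsGood L F P) (F' : H ⥤ H') :
    IsGood L (F ⋙ F') P :=
  ⟨hP.fac, fun _ g g' h => congrArg F'.map (hP.eq g g' h)⟩

section Cocone

variable {P : C} (hP : IsGood L F P) {d : D} (e : L.obj P ≅ d)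

/-- A chosen lift. -/
noncomputable def IsGood.lift (j : CostructuredArrow L d) : j.left ⟶ P :=
  (hP.fac (j.hom ≫ e.inv)).choose

lemma IsGood.map_lift (j : CostructuredArrow L d) :
    L.map (hP.lift e j) = j.hom ≫ e.inv :=
  (hP.fac (j.hom ≫ e.inv)).choose_spec

/-- The colimit cocone computing the derived functor at a good object. -/
noncomputable def IsGood.cocone : Cocone (CostructuredArrow.proj L d ⋙ F) where
  pt := F.obj P
  ι :=
    { app := fun j => F.map (hP.lift e j)
      naturality := fun j j' φ => by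
        have h : L.map (φ.left ≫ hP.lift e j') = L.map (hP.lift e j) := by
          rw [L.map_comp, hP.map_lift, hP.map_lift, CostructuredArrow.w_assoc]
        exact ((F.map_comp _ _).symm.trans (hP.eq _ _ h)).trans (Category.comp_id _).symm }

/-- It is a colimit. -/
noncomputable def IsGood.isColimit : IsColimit (hP.cocone e) where
  desc s := s.ι.app (CostructuredArrow.mk e.hom)
  fac s j := by
    refine s.w (CostructuredArrow.homMk (f' := CostructuredArrow.mk e.hom) (hP.lift e j) ?_)
    simp [hP.map_lift]
  uniq s m hm := by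
    have h := hm (CostructuredArrow.mk e.hom)
    have h1 : F.map (hP.lift e (CostructuredArrow.mk e.hom)) = 𝟙 (F.obj P) := by
      rw [← F.map_id]
      refine hP.eq _ _ ?_
      rw [hP.map_lift]
      simp
    exact ((Category.id_comp m).symm.trans (congrArg (· ≫ m) h1.symm)).trans h

include hP e in
lemma IsGood.hasPointwiseLeftKanExtensionAt : L.HasPointwiseLeftKanExtensionAt F d :=
  ⟨⟨_, hP.isColimit e⟩⟩

end Cocone

variable (W : MorphismProperty C) [L.IsLocalization W]

variable (L F) in
/-- Enough good objects. -/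
def HasEnough : Prop := ∀ X : C, ∃ (P : C) (s : X ⟶ P), IsGood L F P ∧ IsIso (L.map s)

theorem HasEnough.comp {H' : Type u₄} [Category.{v₄} H'] (h : HasEnough L F) (F' : H ⥤ H') :
    HasEnough L (F ⋙ F') := fun X => by
  obtain ⟨P, s, hP, hs⟩ := h X
  exact ⟨P, s, hP.comp F', hs⟩

include W in
lemma HasEnough.hasPointwiseLeftKanExtension (h : HasEnough L F) :
    L.HasPointwiseLeftKanExtension F := fun d => by
  have := Localization.essSurj L W
  obtain ⟨P, s, hP, hs⟩ := h (L.objPreimage d)
  exact hP.hasPointwiseLeftKanExtensionAt ((asIso (L.map s)).symm ≪≫ L.objObjPreimageIso d)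

theorem HasEnough.hasRightDerivedFunctor (h : HasEnough L F) : F.HasRightDerivedFunctor W := by
  have := h.hasPointwiseLeftKanExtension W
  rw [Functor.hasRightDerivedFunctor_iff F L W]
  infer_instance

variable {W} (RF : D ⥤ H) (α : F ⟶ L ⋙ RF)

include W in
/-- The unit is an isomorphism at good objects. -/
theorem HasEnough.isIso_app [RF.IsRightDerivedFunctor α W] (h : HasEnough L F) {P : C}
    (hP : IsGood L F P) : IsIso (α.app P) := by
  have := h.hasPointwiseLeftKanExtension W
  have := Functor.IsRightDerivedFunctor.isLeftKanExtension RF α W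
  have hcolim : IsColimit ((Functor.LeftExtension.mk RF α).coconeAt (L.obj P)) :=
    Functor.isPointwiseLeftKanExtensionOfIsLeftKanExtension RF α (L.obj P)
  let j : CostructuredArrow L (L.obj P) := CostructuredArrow.mk (𝟙 (L.obj P))
  have h1 : ((Functor.LeftExtension.mk RF α).coconeAt (L.obj P)).ι.app j = α.app P := by
    change α.app P ≫ RF.map (𝟙 (L.obj P)) = _
    rw [RF.map_id]
    exact Category.comp_id _
  have h2 := IsColimit.comp_coconePointUniqueUpToIso_hom (hP.isColimit (Iso.refl _)) hcolim j
  have hl : L.map (hP.lift (Iso.refl (L.obj P)) j) = L.map (𝟙 P) :=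
    (hP.map_lift (Iso.refl (L.obj P)) j).trans ((Category.comp_id _).trans (L.map_id P).symm)
  have h3 : (hP.cocone (Iso.refl (L.obj P))).ι.app j = 𝟙 (F.obj P) :=
    (hP.eq _ _ hl).trans (F.map_id P)
  rw [h1, h3] at h2
  have h4 : ((hP.isColimit (Iso.refl _)).coconePointUniqueUpToIso hcolim).hom = α.app P :=
    (Category.id_comp _).symm.trans h2
  rw [← h4]
  exact ⟨_, ((hP.isColimit (Iso.refl _)).coconePointUniqueUpToIso hcolim).hom_inv_id,
    ((hP.isColimit (Iso.refl _)).coconePointUniqueUpToIso hcolim).inv_hom_id⟩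

variable (W) in
/-- A functor agreeing with `F` on enough good objects is its right derived functor. -/
theorem isRightDerivedFunctor_of_isIso
    (h : ∀ X : C, ∃ (P : C) (s : X ⟶ P), IsGood L F P ∧ IsIso (L.map s) ∧ IsIso (α.app P)) :
    RF.IsRightDerivedFunctor α W := by
  have hpt : ∀ d : D, Nonempty (IsColimit ((Functor.LeftExtension.mk RF α).coconeAt d)) := fun d => by
    have := Localization.essSurj L W
    obtain ⟨P, s, hP, hs, hα⟩ := h (L.objPreimage d)
    let e : L.obj P ≅ d := (asIso (L.map s)).symm ≪≫ L.objObjPreimageIso d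
    refine ⟨IsColimit.ofIsoColimit (hP.isColimit e)
      (Cocone.ext (@asIso _ _ _ _ (α.app P) hα ≪≫ RF.mapIso e) fun j => ?_)⟩
    change F.map (hP.lift e j) ≫ α.app P ≫ RF.map e.hom = α.app j.left ≫ RF.map j.hom
    have hn : α.app j.left ≫ RF.map (L.map (hP.lift e j)) = F.map (hP.lift e j) ≫ α.app P :=
      (α.naturality (hP.lift e j)).symm
    rw [← Category.assoc, ← hn, Category.assoc, ← RF.map_comp, hP.map_lift, Category.assoc,
      Iso.inv_hom_id, Category.comp_id]
  have : RF.IsLeftKanExtension α :=
    Functor.LeftExtension.IsPointwiseLeftKanExtension.isLeftKanExtension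
      (E := Functor.LeftExtension.mk RF α) fun d => (hpt d).some
  exact ⟨inferInstance⟩

section KInjective

variable {A : Type u₁} [Category.{v₁} A] [Abelian A] [HasDerivedCategory.{w} A]
  {H' : Type u₃} [Category.{v₃} H'] (F : HomotopyCategory A (ComplexShape.up ℤ) ⥤ H')

lemma isGood_quotient (I : CochainComplex A ℤ) [I.IsKInjective] :
    IsGood DerivedCategory.Qh F ((HomotopyCategory.quotient A (ComplexShape.up ℤ)).obj I) where
  fac Y φ := (CochainComplex.IsKInjective.Qh_map_bijective Y I).surjective φ
  eq Y g g' h := by rw [(CochainComplex.IsKInjective.Qh_map_bijective Y I).injective h]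

lemma hasEnough [IsGrothendieckAbelian.{v₁} A] : HasEnough DerivedCategory.Qh F := fun X => by
  obtain ⟨K, rfl⟩ := HomotopyCategory.quotient_obj_surjective X
  obtain ⟨I, s, hI, hs, -, -⟩ := DHA.KInj.exists_resolution A K
  exact ⟨_, (HomotopyCategory.quotient _ _).map s, isGood_quotient F I,
    (NatIso.isIso_map_iff (DerivedCategory.quotientCompQhIso A) s).2 inferInstance⟩

end KInjective

end Groth.Agent.DTrunc.RightDerived
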