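import Mathlib.Algebra.Homology.DerivedCategory.TStructure
import Mathlib.Algebra.Homology.SingleHomology
import Mathlib.Algebra.Homology.DerivedCategory.ExactFunctor
import Mathlib.Algebra.Homology.DerivedCategory.HomologySequence
import Mathlib.CategoryTheory.Triangulated.TStructure.TruncLTGE
import Mathlib.CategoryTheory.Triangulated.Adjunction

/-!
Way-out lemma on derived categories: a natural transformation between triangulated functors
preserving "bounded below by `n`" is an isomorphism on a bounded below object as soon as it is so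
on its cohomology objects.
-/

universe w₁ w₂ v₁ v₂ u₁ u₂

open CategoryTheory Limits Pretriangulated DerivedCategory

namespace Groth.Agent.DTrunc

variable {A : Type u₁} [Category.{v₁} A] [Abelian A] [HasDerivedCategory.{w₁} A]
  {B : Type u₂} [Category.{v₂} B] [Abelian B] [HasDerivedCategory.{w₂} B]

theorem isGE_mapDerivedCategory (F : A ⥤ B) [F.Additive] [PreservesFiniteLimits F]
    [PreservesFiniteColimits F] (X : DerivedCategory A) (n : ℤ) [X.IsGE n] :
    (F.mapDerivedCategory.obj X).IsGE n := by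
  obtain ⟨K, _, ⟨e⟩⟩ := X.exists_iso_Q_obj_of_isGE n
  have : CochainComplex.IsStrictlyGE ((F.mapHomologicalComplex (ComplexShape.up ℤ)).obj K) n := by
    rw [CochainComplex.isStrictlyGE_iff]
    exact fun i hi => F.map_isZero (K.isZero_of_isStrictlyGE n i hi)
  exact ⟨_, F.mapDerivedCategory.mapIso e ≪≫ F.mapDerivedCategoryFactors.app K, this⟩

theorem isLE_mapDerivedCategory (F : A ⥤ B) [F.Additive] [PreservesFiniteLimits F]
    [PreservesFiniteColimits F] (X : DerivedCategory A) (n : ℤ) [X.IsLE n] :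
    (F.mapDerivedCategory.obj X).IsLE n := by
  obtain ⟨K, _, ⟨e⟩⟩ := X.exists_iso_Q_obj_of_isLE n
  have : CochainComplex.IsStrictlyLE ((F.mapHomologicalComplex (ComplexShape.up ℤ)).obj K) n := by
    rw [CochainComplex.isStrictlyLE_iff]
    exact fun i hi => F.map_isZero (K.isZero_of_isStrictlyLE n i hi)
  exact ⟨_, F.mapDerivedCategory.mapIso e ≪≫ F.mapDerivedCategoryFactors.app K, this⟩

/-- The right adjoint of a right t-exact functor is left t-exact. -/
theorem isGE_rightAdjoint {L : DerivedCategory A ⥤ DerivedCategory B}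
    {R : DerivedCategory B ⥤ DerivedCategory A} (adj : L ⊣ R) [L.PreservesZeroMorphisms]
    (hL : ∀ (Y : DerivedCategory A) (m : ℤ), Y.IsLE m → (L.obj Y).IsLE m)
    (X : DerivedCategory B) (n : ℤ) [X.IsGE n] : (R.obj X).IsGE n := by
  refine (TStructure.t.isGE_iff_orthogonal (n - 1) n (by lia) _).2 fun Y f hY => ?_
  apply (adj.homEquiv Y X).symm.injective
  have := hL Y (n - 1) hY
  rw [TStructure.t.zero ((adj.homEquiv Y X).symm f) (n - 1) n (by lia), adj.homEquiv_counit,
    L.map_zero, zero_comp]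

variable (T : Triangle (DerivedCategory A)) (hT : T ∈ distTriang (DerivedCategory A))

include hT in
theorem isIso_homology_mor₁ (a q : ℤ) (hq : q < a) [T.obj₃.IsGE a] :
    IsIso ((homologyFunctor A q).map T.mor₁) := by
  have h1 : Epi ((homologyFunctor A q).map T.mor₁) :=
    (HomologySequence.epi_homologyMap_mor₁_iff T hT q).2
      ((isZero_of_isGE T.obj₃ a q hq).eq_of_tgt _ _)
  have h2 : Mono ((homologyFunctor A q).map T.mor₁) :=
    (HomologySequence.mono_homologyMap_mor₁_iff T hT (q - 1) q (by lia)).2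
      ((isZero_of_isGE T.obj₃ a (q - 1) (by lia)).eq_of_src _ _)
  exact isIso_of_mono_of_epi _

include hT in
theorem isIso_homology_mor₂ (b q : ℤ) (hq : b < q) [T.obj₁.IsLE b] :
    IsIso ((homologyFunctor A q).map T.mor₂) := by
  have h1 : Mono ((homologyFunctor A q).map T.mor₂) :=
    (HomologySequence.mono_homologyMap_mor₂_iff T hT q).2
      ((isZero_of_isLE T.obj₁ b q hq).eq_of_src _ _)
  have h2 : Epi ((homologyFunctor A q).map T.mor₂) :=
    (HomologySequence.epi_homologyMap_mor₂_iff T hT q (q + 1) (by lia)).2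
      ((isZero_of_isLE T.obj₁ b (q + 1) (by lia)).eq_of_tgt _ _)
  exact isIso_of_mono_of_epi _

/-- Homology of a single complex. -/
noncomputable def homologySingleIso (Y : A) (n : ℤ) :
    (homologyFunctor A n).obj ((singleFunctor A n).obj Y) ≅ Y :=
  (homologyFunctorFactors A n).app _ ≪≫
    HomologicalComplex.singleObjHomologySelfIso (ComplexShape.up ℤ) n Y

variable {Φ Ψ : DerivedCategory A ⥤ DerivedCategory B} (α : Φ ⟶ Ψ)

theorem isIso_app_of_iso {X Y : DerivedCategory A} (e : X ≅ Y) [IsIso (α.app X)] :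
    IsIso (α.app Y) := by
  have : α.app Y = Φ.map e.inv ≫ α.app X ≫ Ψ.map e.hom := by
    rw [← α.naturality, ← Functor.map_comp_assoc, e.inv_hom_id, Φ.map_id, Category.id_comp]
  rw [this]
  infer_instance

variable [Φ.CommShift ℤ] [Ψ.CommShift ℤ] [NatTrans.CommShift α ℤ]

theorem isIso_app_single (Y : A) (n : ℤ) [IsIso (α.app ((singleFunctor A 0).obj Y))] :
    IsIso (α.app ((singleFunctor A n).obj Y)) := by
  have : IsIso (α.app (((singleFunctor A 0).obj Y)⟦-n⟧)) := by
    rw [NatTrans.app_shift α (-n)]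
    infer_instance
  exact @isIso_app_of_iso _ _ _ _ _ _ _ _ _ _ α _ _
    (((singleFunctors A).shiftIso (-n) n 0 (by lia)).app Y) this

variable [Φ.IsTriangulated] [Ψ.IsTriangulated]

theorem isIso_app_obj₂ (T : Triangle (DerivedCategory A))
    (hT : T ∈ distTriang (DerivedCategory A)) (h₁ : IsIso (α.app T.obj₁))
    (h₃ : IsIso (α.app T.obj₃)) : IsIso (α.app T.obj₂) := by
  let φ : Φ.mapTriangle.obj T ⟶ Ψ.mapTriangle.obj T :=
    { hom₁ := α.app T.obj₁
      hom₂ := α.app T.obj₂
      hom₃ := α.app T.obj₃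
      comm₁ := α.naturality _
      comm₂ := α.naturality _
      comm₃ := by
        show (Φ.map T.mor₃ ≫ (Φ.commShiftIso (1 : ℤ)).hom.app T.obj₁) ≫ (α.app T.obj₁)⟦(1 : ℤ)⟧' =
          α.app T.obj₃ ≫ Ψ.map T.mor₃ ≫ (Ψ.commShiftIso (1 : ℤ)).hom.app T.obj₁
        rw [Category.assoc, NatTrans.shift_app_comm, ← Category.assoc, α.naturality,
          Category.assoc] }
  exact isIso₂_of_isIso₁₃ φ (Φ.map_distinguished T hT) (Ψ.map_distinguished T hT) h₁ h₃

/-- Bounded version. -/
theorem isIso_app_bounded (a : ℤ) : ∀ (k : ℕ) (X : DerivedCategory A), X.IsGE a → X.IsLE (a + k - 1) →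
    (∀ q, IsIso (α.app ((singleFunctor A 0).obj ((homologyFunctor A q).obj X)))) →
    IsIso (α.app X)
  | 0, X, hge, hle, _ => by
    have hX : IsZero X := TStructure.t.isZero X (a + ((0 : ℕ) : ℤ) - 1) a (by simp)
    exact ⟨0, (Φ.map_isZero hX).eq_of_src _ _, (Ψ.map_isZero hX).eq_of_src _ _⟩
  | k + 1, X, hge, hle, h => by
    let T := (TStructure.t.triangleLTGE (a + k)).obj X
    have hT : T ∈ distTriang (DerivedCategory A) :=
      TStructure.t.triangleLTGE_distinguished (a + k) X
    have h1 : T.obj₁.IsLE (a + k - 1) :=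
      (inferInstance : TStructure.t.IsLE ((TStructure.t.triangleLTGE (a + k)).obj X).obj₁ _)
    have h3 : T.obj₃.IsGE (a + k) :=
      (inferInstance : TStructure.t.IsGE ((TStructure.t.triangleLTGE (a + k)).obj X).obj₃ _)
    have hge2 : T.obj₂.IsGE a := hge
    have h1' : T.obj₁.IsGE a := by
      rw [isGE_iff]
      intro i hi
      have := isIso_homology_mor₁ T hT (a + k) i (by lia)
      exact (isZero_of_isGE T.obj₂ a i hi).of_iso (asIso ((homologyFunctor A i).map T.mor₁))
    have hle2 : T.obj₂.IsLE (a + k) := by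
      have := hle
      rwa [show a + ((k + 1 : ℕ) : ℤ) - 1 = a + k by omega] at this
    have h3' : T.obj₃.IsLE (a + k) := by
      rw [isLE_iff]
      intro i hi
      have := isIso_homology_mor₂ T hT (a + k - 1) i (by lia)
      exact (isZero_of_isLE T.obj₂ (a + k) i hi).of_iso
        (asIso ((homologyFunctor A i).map T.mor₂)).symm
    have hzero : ∀ Y : A, IsZero Y → IsIso (α.app ((singleFunctor A 0).obj Y)) := fun Y hY =>
      ⟨0, (Φ.map_isZero ((singleFunctor A 0).map_isZero hY)).eq_of_src _ _,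
        (Ψ.map_isZero ((singleFunctor A 0).map_isZero hY)).eq_of_src _ _⟩
    refine isIso_app_obj₂ α T hT (isIso_app_bounded a k T.obj₁ h1' h1 fun q => ?_) ?_
    · by_cases hq : q < a + k
      · have := isIso_homology_mor₁ T hT (a + k) q hq
        have : IsIso (α.app ((singleFunctor A 0).obj ((homologyFunctor A q).obj T.obj₂))) := h q
        exact isIso_app_of_iso α
          ((singleFunctor A 0).mapIso (asIso ((homologyFunctor A q).map T.mor₁)).symm)
      · exact hzero _ (isZero_of_isLE T.obj₁ (a + k - 1) q (by lia))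
    · obtain ⟨Y, ⟨e⟩⟩ := exists_iso_singleFunctor_obj_of_isGE_of_isLE T.obj₃ (a + k)
      have := isIso_homology_mor₂ T hT (a + k - 1) (a + k) (by lia)
      have : IsIso (α.app ((singleFunctor A 0).obj ((homologyFunctor A (a + (k : ℤ))).obj T.obj₂))) :=
        h (a + k)
      have : IsIso (α.app ((singleFunctor A 0).obj Y)) :=
        isIso_app_of_iso α ((singleFunctor A 0).mapIso
          (asIso ((homologyFunctor A (a + k)).map T.mor₂) ≪≫
            (homologyFunctor A (a + k)).mapIso e ≪≫ homologySingleIso Y (a + k)))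
      have := isIso_app_single α Y (a + k)
      exact isIso_app_of_iso α e.symm

/-- The way-out lemma. -/
theorem isIso_app_of_isGE (hΦ : ∀ (Y : DerivedCategory A) (m : ℤ), Y.IsGE m → (Φ.obj Y).IsGE m)
    (hΨ : ∀ (Y : DerivedCategory A) (m : ℤ), Y.IsGE m → (Ψ.obj Y).IsGE m)
    (X : DerivedCategory A) (a : ℤ) [X.IsGE a]
    (h : ∀ q, IsIso (α.app ((singleFunctor A 0).obj ((homologyFunctor A q).obj X)))) :
    IsIso (α.app X) := by
  rw [DerivedCategory.isIso_iff]
  intro i
  let m : ℤ := max (i + 1) a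
  let T := (TStructure.t.triangleLTGE m).obj X
  have hT : T ∈ distTriang (DerivedCategory A) := TStructure.t.triangleLTGE_distinguished m X
  have h1 : T.obj₁.IsLE (m - 1) :=
    (inferInstance : TStructure.t.IsLE ((TStructure.t.triangleLTGE m).obj X).obj₁ _)
  have h3 : T.obj₃.IsGE m :=
    (inferInstance : TStructure.t.IsGE ((TStructure.t.triangleLTGE m).obj X).obj₃ _)
  have hge2 : T.obj₂.IsGE a := ‹X.IsGE a›
  have h1' : T.obj₁.IsGE a := by
    rw [isGE_iff]
    intro j hj
    have := isIso_homology_mor₁ T hT m j (by lia)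
    exact (isZero_of_isGE T.obj₂ a j hj).of_iso (asIso ((homologyFunctor A j).map T.mor₁))
  obtain ⟨k, hk⟩ : ∃ k : ℕ, m = a + k := ⟨(m - a).toNat, by lia⟩
  have hiso : IsIso (α.app T.obj₁) := by
    refine isIso_app_bounded α a k T.obj₁ h1' (hk ▸ h1) fun q => ?_
    by_cases hq : q < m
    · have := isIso_homology_mor₁ T hT m q hq
      have : IsIso (α.app ((singleFunctor A 0).obj ((homologyFunctor A q).obj T.obj₂))) := h q
      exact isIso_app_of_iso α
        ((singleFunctor A 0).mapIso (asIso ((homologyFunctor A q).map T.mor₁)).symm)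
    · have hY := isZero_of_isLE T.obj₁ (m - 1) q (by lia)
      exact ⟨0, (Φ.map_isZero ((singleFunctor A 0).map_isZero hY)).eq_of_src _ _,
        (Ψ.map_isZero ((singleFunctor A 0).map_isZero hY)).eq_of_src _ _⟩
  have : (Φ.mapTriangle.obj T).obj₃.IsGE m := hΦ _ m h3
  have : (Ψ.mapTriangle.obj T).obj₃.IsGE m := hΨ _ m h3
  have := isIso_homology_mor₁ _ (Φ.map_distinguished T hT) m i (by lia)
  have := isIso_homology_mor₁ _ (Ψ.map_distinguished T hT) m i (by lia)
  have : IsIso ((homologyFunctor B i).map (Φ.map T.mor₁)) := ‹IsIso ((homologyFunctor B i).map (Φ.mapTriangle.obj T).mor₁)›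
  have : IsIso ((homologyFunctor B i).map (Ψ.map T.mor₁)) := ‹IsIso ((homologyFunctor B i).map (Ψ.mapTriangle.obj T).mor₁)›
  have hsq : (homologyFunctor B i).map (Φ.map T.mor₁) ≫ (homologyFunctor B i).map (α.app T.obj₂) =
      (homologyFunctor B i).map (α.app T.obj₁) ≫ (homologyFunctor B i).map (Ψ.map T.mor₁) := by
    rw [← Functor.map_comp, α.naturality, Functor.map_comp]
  have : IsIso ((homologyFunctor B i).map (Φ.map T.mor₁) ≫
      (homologyFunctor B i).map (α.app T.obj₂)) := hsq ▸ inferInstance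
  exact IsIso.of_isIso_comp_left ((homologyFunctor B i).map (Φ.map T.mor₁))
    ((homologyFunctor B i).map (α.app T.obj₂))

end Groth.Agent.DTrunc
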