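import Groth.Agent.DTrunc.RightDerived
import Groth.Agent.DRing.DerivedAdj
import Groth.Agent.DTrunc.WayOut

/-!
The derived adjunction `L ⊣ RR` for an exact left adjoint into a Grothendieck abelian category.
-/

universe w₁ w₂ v₁ v₂ u₁ u₂

open CategoryTheory CategoryTheory.Limits

namespace Groth.Agent.DTrunc.DerivedPushAdj

variable {A : Type u₁} [Category.{v₁} A] [Abelian A] [HasDerivedCategory.{w₁} A]
  {B : Type u₂} [Category.{v₂} B] [Abelian B] [HasDerivedCategory.{w₂} B]
  {L : A ⥤ B} [L.Additive] [PreservesFiniteLimits L] [PreservesFiniteColimits L]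
  {R : B ⥤ A} [R.Additive]
  (RR : DerivedCategory B ⥤ DerivedCategory A)
  (β : R.mapHomotopyCategory (ComplexShape.up ℤ) ⋙ DerivedCategory.Qh ⟶ DerivedCategory.Qh ⋙ RR)

include β in
/-- The derived adjunction. -/
theorem nonempty_adjunction [IsGrothendieckAbelian.{v₂} B] [RR.IsRightDerivedFunctor β (HomotopyCategory.quasiIso B (ComplexShape.up ℤ))] (adj : L ⊣ R) :
    Nonempty (L.mapDerivedCategory ⊣ RR) := by
  let W₁ := HomotopyCategory.quasiIso A (ComplexShape.up ℤ)
  let W₂ := HomotopyCategory.quasiIso B (ComplexShape.up ℤ)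
  let adjK := DRing.DerivedAdj.mapHomotopyCategoryAdj adj
  let G' := L.mapDerivedCategory
  let eα : DerivedCategory.Qh ⋙ G' ≅
      L.mapHomotopyCategory (ComplexShape.up ℤ) ⋙ DerivedCategory.Qh :=
    L.mapDerivedCategoryFactorsh
  have hG : G'.IsLeftDerivedFunctor eα.hom W₁ :=
    Functor.isLeftDerivedFunctor_of_inverts _ _ eα
  have hGF : (G' ⋙ RR).IsLeftDerivedFunctor
      ((Functor.associator _ _ _).inv ≫ Functor.whiskerRight eα.hom RR) W₁ :=
    Functor.isLeftDerivedFunctor_of_inverts _ _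
      ((Functor.associator _ _ _).symm ≪≫ Functor.isoWhiskerRight eα RR)
  have hen : RightDerived.HasEnough DerivedCategory.Qh
      (R.mapHomotopyCategory (ComplexShape.up ℤ) ⋙ DerivedCategory.Qh) :=
    RightDerived.hasEnough _
  have hFG : (RR ⋙ G').IsRightDerivedFunctor
      (Functor.whiskerRight β G' ≫ (Functor.associator _ _ _).hom) W₂ := by
    refine RightDerived.isRightDerivedFunctor_of_isIso W₂ _ _ fun X => ?_
    obtain ⟨P, s, hP, hs⟩ := hen X
    have hP' : RightDerived.IsGood DerivedCategory.Qh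
        ((R.mapHomotopyCategory (ComplexShape.up ℤ) ⋙ DerivedCategory.Qh) ⋙ G') P := hP.comp G'
    refine ⟨P, s, hP', hs, ?_⟩
    have := hen.isIso_app (W := W₂) RR β hP
    change IsIso (G'.map (β.app P) ≫ 𝟙 _)
    infer_instance
  exact ⟨Adjunction.derived adjK W₁ W₂ eα.hom β⟩

end Groth.Agent.DTrunc.DerivedPushAdj
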