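import Groth.Agent.DTrunc.WayOut
import Groth.Prelude.Def_WeakSerre
import Mathlib.Algebra.Homology.ShortComplex.PreservesHomology

/-!
Cohomology objects in a weak Serre subcategory, dévissage for bounded objects.
-/

universe w₁ w₂ v₁ v₂ u₁ u₂

open CategoryTheory Limits Pretriangulated DerivedCategory

namespace Groth.Agent.DTrunc

variable {A : Type u₁} [Category.{v₁} A] [Abelian A] [HasDerivedCategory.{w₁} A]
  {B : Type u₂} [Category.{v₂} B] [Abelian B] [HasDerivedCategory.{w₂} B]

/-- An exact functor commutes with homology. -/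
noncomputable def homologyMapDerivedIso (F : A ⥤ B) [F.Additive] [PreservesFiniteLimits F]
    [PreservesFiniteColimits F] (X : DerivedCategory A) (q : ℤ) :
    (homologyFunctor B q).obj (F.mapDerivedCategory.obj X) ≅
      F.obj ((homologyFunctor A q).obj X) :=
  (homologyFunctor B q).mapIso
      (F.mapDerivedCategory.mapIso (Q.objObjPreimageIso X).symm ≪≫
        F.mapDerivedCategoryFactors.app (Q.objPreimage X)) ≪≫
    (homologyFunctorFactors B q).app _ ≪≫ ShortComplex.mapHomologyIso ((Q.objPreimage X).sc q) F ≪≫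
    F.mapIso (((homologyFunctorFactors A q).app _).symm ≪≫
      (homologyFunctor A q).mapIso (Q.objObjPreimageIso X))

omit [HasDerivedCategory.{w₁} A] in
/-- The five-term closure property of a weak Serre subcategory. -/
theorem prop_of_five_term (P : ObjectProperty A) [WSerre.IsWeakSerre P] {X₁ X₂ X₃ X₄ X₅ : A}
    (f₁ : X₁ ⟶ X₂) (f₂ : X₂ ⟶ X₃) (f₃ : X₃ ⟶ X₄) (f₄ : X₄ ⟶ X₅)
    (z₁ : f₁ ≫ f₂ = 0) (z₂ : f₂ ≫ f₃ = 0) (z₃ : f₃ ≫ f₄ = 0)
    (e₁ : (ShortComplex.mk f₁ f₂ z₁).Exact) (e₂ : (ShortComplex.mk f₂ f₃ z₂).Exact)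
    (e₃ : (ShortComplex.mk f₃ f₄ z₃).Exact)
    (h₁ : P X₁) (h₂ : P X₂) (h₄ : P X₄) (h₅ : P X₅) : P X₃ := by
  have hc : P (cokernel f₁) := P.prop_cokernel f₁ h₁ h₂
  have hk : P (kernel f₄) := P.prop_kernel f₄ h₄ h₅
  have hm : Mono (cokernel.desc f₁ f₂ z₁) := (ShortComplex.exact_iff_mono_cokernel_desc _).1 e₁
  have he : Epi (kernel.lift f₄ f₃ z₃) := (ShortComplex.exact_iff_epi_kernel_lift _).1 e₃
  have z : cokernel.desc f₁ f₂ z₁ ≫ kernel.lift f₄ f₃ z₃ = 0 := by
    apply coequalizer.hom_ext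
    apply equalizer.hom_ext
    simp [z₂]
  let S' : ShortComplex A := ShortComplex.mk (cokernel.desc f₁ f₂ z₁) f₃ (by
    apply coequalizer.hom_ext
    simp [z₂])
  let φ : ShortComplex.mk f₂ f₃ z₂ ⟶ S' :=
    { τ₁ := cokernel.π f₁, τ₂ := 𝟙 _, τ₃ := 𝟙 _ }
  let ψ : ShortComplex.mk _ _ z ⟶ S' :=
    { τ₁ := 𝟙 _, τ₂ := 𝟙 _, τ₃ := kernel.ι f₄ }
  have : Epi φ.τ₁ := by dsimp [φ]; infer_instance
  have : IsIso φ.τ₂ := by dsimp [φ]; infer_instance
  have : Mono φ.τ₃ := by dsimp [φ]; infer_instance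
  have : Epi ψ.τ₁ := by dsimp [ψ]; infer_instance
  have : IsIso ψ.τ₂ := by dsimp [ψ]; infer_instance
  have : Mono ψ.τ₃ := by dsimp [ψ]; infer_instance
  have hS : (ShortComplex.mk _ _ z).Exact :=
    (ShortComplex.exact_iff_of_epi_of_isIso_of_mono ψ).2
      ((ShortComplex.exact_iff_of_epi_of_isIso_of_mono φ).1 e₂)
  exact P.prop_X₂_of_shortExact (ShortComplex.ShortExact.mk' hS hm he) hc hk

section

variable (P : ObjectProperty A) [WSerre.IsWeakSerre P]

theorem cohIn_of_iso {X Y : DerivedCategory A} (e : X ≅ Y) (h : WSerre.cohIn P X) :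
    WSerre.cohIn P Y :=
  fun i => P.prop_of_iso ((homologyFunctor A i).mapIso e) (h i)

theorem prop_of_isZero {Y : A} (hY : IsZero Y) : P Y := by
  obtain ⟨Z, hZ, hPZ⟩ := P.exists_prop_of_containsZero
  exact P.prop_of_iso (hZ.iso hY) hPZ

theorem cohIn_of_isZero {X : DerivedCategory A} (hX : IsZero X) : WSerre.cohIn P X :=
  fun i => prop_of_isZero P ((homologyFunctor A i).map_isZero hX)

theorem cohIn_obj₂ (T : Triangle (DerivedCategory A)) (hT : T ∈ distTriang (DerivedCategory A))
    (h₁ : WSerre.cohIn P T.obj₁) (h₃ : WSerre.cohIn P T.obj₃) : WSerre.cohIn P T.obj₂ :=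
  fun i => prop_of_five_term P (HomologySequence.δ T (i - 1) i (by lia))
    ((homologyFunctor A i).map T.mor₁) ((homologyFunctor A i).map T.mor₂)
    (HomologySequence.δ T i (i + 1) (by lia))
    (HomologySequence.δ_comp T hT (i - 1) i (by lia))
    (by rw [← Functor.map_comp, comp_distTriang_mor_zero₁₂ T hT, Functor.map_zero])
    (HomologySequence.comp_δ T hT i (i + 1) (by lia))
    (HomologySequence.exact₁ T hT (i - 1) i (by lia))
    (HomologySequence.exact₂ T hT i)
    (HomologySequence.exact₃ T hT i (i + 1) (by lia))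
    (h₃ (i - 1)) (h₁ i) (h₃ i) (h₁ (i + 1))

theorem cohIn_shift {X : DerivedCategory A} (h : WSerre.cohIn P X) (k : ℤ) :
    WSerre.cohIn P (X⟦k⟧) := fun i =>
  P.prop_of_iso ((((homologyFunctor A 0).shiftIso k i (k + i) rfl).app X)).symm (h (k + i))

theorem cohIn_single {F : A} (h : P F) (n : ℤ) :
    WSerre.cohIn P ((singleFunctor A n).obj F) := by
  intro i
  rcases lt_trichotomy i n with hi | rfl | hi
  · exact prop_of_isZero P (isZero_of_isGE _ n i hi)
  · exact P.prop_of_iso (homologySingleIso F i).symm h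
  · exact prop_of_isZero P (isZero_of_isLE _ n i hi)

end

/-- A property closed under extensions by triangles, with zero. -/
structure TriClosed (S : ObjectProperty (DerivedCategory A)) : Prop where
  zero : ∀ X, IsZero X → S X
  iso : ∀ {X Y : DerivedCategory A}, (X ≅ Y) → S X → S Y
  ext : ∀ T ∈ distTriang (DerivedCategory A), S T.obj₁ → S T.obj₃ → S T.obj₂

/-- Dévissage of bounded objects along their cohomology objects. -/
theorem TriClosed.of_bounded {S : ObjectProperty (DerivedCategory A)} (hS : TriClosed S) (a : ℤ) :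
    ∀ (k : ℕ) (X : DerivedCategory A), X.IsGE a → X.IsLE (a + k - 1) →
    (∀ n, S ((singleFunctor A n).obj ((homologyFunctor A n).obj X))) → S X
  | 0, X, hge, hle, _ => hS.zero X (TStructure.t.isZero X (a + ((0 : ℕ) : ℤ) - 1) a (by simp))
  | k + 1, X, hge, hle, h => by
    let T := (TStructure.t.triangleLTGE (a + k)).obj X
    have hT : T ∈ distTriang (DerivedCategory A) :=
      TStructure.t.triangleLTGE_distinguished (a + k) X
    have h1 : T.obj₁.IsLE (a + k - 1) :=
      (inferInstance : TStructure.t.IsLE ((TStructure.t.triangleLTGE (a + k)).obj X).obj₁ _)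
    have h3 : T.obj₃.IsGE (a + k) :=
      (inferInstance : TStructure.t.IsGE ((TStructure.t.triangleLTGE (a + k)).obj X).obj₃ _)
    have hge2 : T.obj₂.IsGE a := hge
    have h1' : T.obj₁.IsGE a := by
      rw [isGE_iff]
      intro i hi
      have := isIso_homology_mor₁ T hT (a + k) i (by lia)
      exact (isZero_of_isGE T.obj₂ a i hi).of_iso (asIso ((homologyFunctor A i).map T.mor₁))
    have hle2 : T.obj₂.IsLE (a + k) := by
      have := hle
      rwa [show a + ((k + 1 : ℕ) : ℤ) - 1 = a + k by omega] at this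
    have h3' : T.obj₃.IsLE (a + k) := by
      rw [isLE_iff]
      intro i hi
      have := isIso_homology_mor₂ T hT (a + k - 1) i (by lia)
      exact (isZero_of_isLE T.obj₂ (a + k) i hi).of_iso
        (asIso ((homologyFunctor A i).map T.mor₂)).symm
    refine hS.ext T hT (TriClosed.of_bounded hS a k T.obj₁ h1' h1 fun q => ?_) ?_
    · by_cases hq : q < a + k
      · have := isIso_homology_mor₁ T hT (a + k) q hq
        exact hS.iso ((singleFunctor A q).mapIso (asIso ((homologyFunctor A q).map T.mor₁)).symm)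
          (h q)
      · exact hS.zero _ ((singleFunctor A q).map_isZero
          (isZero_of_isLE T.obj₁ (a + k - 1) q (by lia)))
    · obtain ⟨Y, ⟨e⟩⟩ := exists_iso_singleFunctor_obj_of_isGE_of_isLE T.obj₃ (a + k)
      have := isIso_homology_mor₂ T hT (a + k - 1) (a + k) (by lia)
      exact hS.iso ((singleFunctor A (a + k)).mapIso
        (asIso ((homologyFunctor A (a + k)).map T.mor₂) ≪≫
          (homologyFunctor A (a + k)).mapIso e ≪≫ homologySingleIso Y (a + k)) ≪≫ e.symm)
        (h (a + k))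

variable (Φ : DerivedCategory A ⥤ DerivedCategory B) [Φ.CommShift ℤ] [Φ.IsTriangulated]
  (P' : ObjectProperty B) [WSerre.IsWeakSerre P']

/-- The image of a bounded below object has cohomology in `P'` if the images of its cohomology
objects do, for a left t-exact triangulated functor. -/
theorem cohIn_map_of_isGE (hΦ : ∀ (Y : DerivedCategory A) (m : ℤ), Y.IsGE m → (Φ.obj Y).IsGE m)
    (X : DerivedCategory A) (a : ℤ) [X.IsGE a]
    (h : ∀ q, WSerre.cohIn P' (Φ.obj ((singleFunctor A 0).obj ((homologyFunctor A q).obj X)))) :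
    WSerre.cohIn P' (Φ.obj X) := by
  intro i
  let m : ℤ := max (i + 1) a
  let T := (TStructure.t.triangleLTGE m).obj X
  have hT : T ∈ distTriang (DerivedCategory A) := TStructure.t.triangleLTGE_distinguished m X
  have h1 : T.obj₁.IsLE (m - 1) :=
    (inferInstance : TStructure.t.IsLE ((TStructure.t.triangleLTGE m).obj X).obj₁ _)
  have h3 : T.obj₃.IsGE m :=
    (inferInstance : TStructure.t.IsGE ((TStructure.t.triangleLTGE m).obj X).obj₃ _)
  have hge2 : T.obj₂.IsGE a := ‹X.IsGE a›
  have h1' : T.obj₁.IsGE a := by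
    rw [isGE_iff]
    intro j hj
    have := isIso_homology_mor₁ T hT m j (by lia)
    exact (isZero_of_isGE T.obj₂ a j hj).of_iso (asIso ((homologyFunctor A j).map T.mor₁))
  obtain ⟨k, hk⟩ : ∃ k : ℕ, m = a + k := ⟨(m - a).toNat, by lia⟩
  have hS : TriClosed (fun Z => WSerre.cohIn P' (Φ.obj Z)) :=
    { zero := fun Z hZ => cohIn_of_isZero P' (Φ.map_isZero hZ)
      iso := fun e hZ => cohIn_of_iso P' (Φ.mapIso e) hZ
      ext := fun T hT h₁ h₃ => cohIn_obj₂ P' _ (Φ.map_distinguished T hT) h₁ h₃ }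
  have hfin : WSerre.cohIn P' (Φ.obj T.obj₁) := by
    refine hS.of_bounded a k T.obj₁ h1' (hk ▸ h1) fun q => ?_
    by_cases hq : q < m
    · have := isIso_homology_mor₁ T hT m q hq
      refine cohIn_of_iso P' (Φ.mapIso ((singleFunctor A q).mapIso
        (asIso ((homologyFunctor A q).map T.mor₁)).symm)) ?_
      refine cohIn_of_iso P' ((Φ.commShiftIso (-q)).app _).symm ?_ |> cohIn_of_iso P'
        (Φ.mapIso (((singleFunctors A).shiftIso (-q) q 0 (by lia)).app _))
      exact cohIn_shift P' (h q) (-q)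
    · exact cohIn_of_isZero P' (Φ.map_isZero ((singleFunctor A q).map_isZero
        (isZero_of_isLE T.obj₁ (m - 1) q (by lia))))
  have : (Φ.mapTriangle.obj T).obj₃.IsGE m := hΦ _ m h3
  have hiso := isIso_homology_mor₁ _ (Φ.map_distinguished T hT) m i (by lia)
  exact P'.prop_of_iso (@asIso _ _ _ _ _ hiso) (hfin i)

end Groth.Agent.DTrunc
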