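import Groth.Agent.DTrunc.WayOut

/-!
Units and counits of a derived adjunction `F^* ⊣ R` for an exact functor, on bounded below objects.
-/

universe w₁ w₂ v₁ v₂ u₁ u₂

open CategoryTheory Limits Pretriangulated DerivedCategory

namespace Groth.Agent.DTrunc

variable {A : Type u₁} [Category.{v₁} A] [Abelian A] [HasDerivedCategory.{w₁} A]
  {B : Type u₂} [Category.{v₂} B] [Abelian B] [HasDerivedCategory.{w₂} B]
  {F : A ⥤ B} [F.Additive] [PreservesFiniteLimits F] [PreservesFiniteColimits F]
  {R : DerivedCategory B ⥤ DerivedCategory A} (adj : F.mapDerivedCategory ⊣ R)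

include adj in
theorem isGE_rightAdjoint_mapDerivedCategory (X : DerivedCategory B) (n : ℤ) [X.IsGE n] :
    (R.obj X).IsGE n :=
  isGE_rightAdjoint adj (fun Y m _ => isLE_mapDerivedCategory F Y m) X n

theorem isIso_counit_app (X : DerivedCategory B) (n : ℤ) [X.IsGE n]
    (h : ∀ q, IsIso (adj.counit.app ((singleFunctor B 0).obj ((homologyFunctor B q).obj X)))) :
    IsIso (adj.counit.app X) := by
  letI := adj.rightAdjointCommShift ℤ
  have := adj.commShift_of_leftAdjoint ℤ
  have := adj.isTriangulated_rightAdjoint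
  exact isIso_app_of_isGE adj.counit
    (fun Y m _ => by
      have := isGE_rightAdjoint_mapDerivedCategory adj Y m
      exact isGE_mapDerivedCategory F (R.obj Y) m)
    (fun _ _ hY => hY) X n h

theorem isIso_unit_app (Y : DerivedCategory A) (n : ℤ) [Y.IsGE n]
    (h : ∀ q, IsIso (adj.unit.app ((singleFunctor A 0).obj ((homologyFunctor A q).obj Y)))) :
    IsIso (adj.unit.app Y) := by
  letI := adj.rightAdjointCommShift ℤ
  have := adj.commShift_of_leftAdjoint ℤ
  have := adj.isTriangulated_rightAdjoint
  exact isIso_app_of_isGE adj.unit (fun _ _ hZ => hZ)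
    (fun Z m _ => by
      have := isGE_mapDerivedCategory F Z m
      exact isGE_rightAdjoint_mapDerivedCategory adj (F.mapDerivedCategory.obj Z) m) Y n h

end Groth.Agent.DTrunc
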