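import Groth.Agent.DTrunc.Adjoint
import Groth.Agent.DTrunc.CohIn

/-!
The bounded below equivalence `D⁺_{A'} ≅ D⁺_A` induced by a derived adjunction.
-/

universe w₁ w₂ v₁ v₂ u₁ u₂

open CategoryTheory Limits Pretriangulated DerivedCategory

namespace Groth.Agent.DTrunc

variable {A : Type u₁} [Category.{v₁} A] [Abelian A] [HasDerivedCategory.{w₁} A]
  {B : Type u₂} [Category.{v₂} B] [Abelian B] [HasDerivedCategory.{w₂} B]
  {F : A ⥤ B} [F.Additive] [PreservesFiniteLimits F] [PreservesFiniteColimits F]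
  {R : DerivedCategory B ⥤ DerivedCategory A} (adj : F.mapDerivedCategory ⊣ R)
  (P : ObjectProperty A) (P' : ObjectProperty B) [WSerre.IsWeakSerre P] [WSerre.IsWeakSerre P']

theorem cohInPlus_unit (hPP' : ∀ X, P X → P' (F.obj X))
    (h3 : ∀ X, P X → IsIso (adj.unit.app ((singleFunctor A 0).obj X)))
    (Y : DerivedCategory A) (hY : WSerre.cohInPlus P Y) :
    WSerre.cohInPlus P' (F.mapDerivedCategory.obj Y) ∧ IsIso (adj.unit.app Y) := by
  obtain ⟨hc, n, hn⟩ := hY
  have : Y.IsGE n := hn
  have := isGE_mapDerivedCategory F Y n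
  exact ⟨⟨fun q => P'.prop_of_iso (homologyMapDerivedIso F Y q).symm (hPP' _ (hc q)),
    n, this⟩, isIso_unit_app adj Y n fun q => h3 _ (hc q)⟩

theorem cohInPlus_counit (h3 : ∀ X, P X → IsIso (adj.unit.app ((singleFunctor A 0).obj X)))
    (hess : ∀ Z, P' Z → ∃ X, P X ∧ Nonempty (F.obj X ≅ Z))
    (X : DerivedCategory B) (hX : WSerre.cohInPlus P' X) :
    WSerre.cohInPlus P (R.obj X) ∧ IsIso (adj.counit.app X) := by
  obtain ⟨hc, n, hn⟩ := hX
  have : X.IsGE n := hn
  letI := adj.rightAdjointCommShift ℤ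
  have := adj.commShift_of_leftAdjoint ℤ
  have := adj.isTriangulated_rightAdjoint
  have key : ∀ Z, P' Z → IsIso (adj.counit.app ((singleFunctor B 0).obj Z)) ∧
      WSerre.cohIn P (R.obj ((singleFunctor B 0).obj Z)) := by
    intro Z hZ
    obtain ⟨W, hW, ⟨e⟩⟩ := hess Z hZ
    have := h3 W hW
    let e' : F.mapDerivedCategory.obj ((singleFunctor A 0).obj W) ≅ (singleFunctor B 0).obj Z :=
      (F.mapDerivedCategorySingleFunctor 0).app W ≪≫ (singleFunctor B 0).mapIso e
    have h1 : IsIso (adj.counit.app (F.mapDerivedCategory.obj ((singleFunctor A 0).obj W))) := by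
      have h := adj.left_triangle_components ((singleFunctor A 0).obj W)
      have : IsIso (F.mapDerivedCategory.map (adj.unit.app ((singleFunctor A 0).obj W))) :=
        inferInstance
      have : IsIso (F.mapDerivedCategory.map (adj.unit.app ((singleFunctor A 0).obj W)) ≫
          adj.counit.app (F.mapDerivedCategory.obj ((singleFunctor A 0).obj W))) := by
        rw [h]; exact (Iso.refl _).isIso_hom
      exact IsIso.of_isIso_comp_left (F.mapDerivedCategory.map (adj.unit.app _)) _
    exact ⟨isIso_app_of_iso adj.counit e', cohIn_of_iso P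
      (asIso (adj.unit.app ((singleFunctor A 0).obj W)) ≪≫ R.mapIso e') (cohIn_single P hW 0)⟩
  refine ⟨⟨?_, n, isGE_rightAdjoint_mapDerivedCategory adj X n⟩,
    isIso_counit_app adj X n fun q => (key _ (hc q)).1⟩
  exact cohIn_map_of_isGE R P (fun Y m _ => isGE_rightAdjoint_mapDerivedCategory adj Y m) X n
    fun q => (key _ (hc q)).2

end Groth.Agent.DTrunc
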