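import Groth.Agent.DTrunc.CohIn
import Mathlib.CategoryTheory.Triangulated.Functor

/-!
Dévissage of full faithfulness and essential surjectivity of a triangulated functor on bounded
objects.
-/

universe w₁ w₂ v₁ v₂ u₁ u₂

open CategoryTheory Limits Pretriangulated

namespace Groth.Agent.DTrunc

section

variable {C : Type u₁} [Category.{v₁} C] [HasZeroObject C] [HasShift C ℤ] [Preadditive C]
  [∀ n : ℤ, (shiftFunctor C n).Additive] [Pretriangulated C]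
  {D : Type u₂} [Category.{v₂} D] [HasZeroObject D] [HasShift D ℤ] [Preadditive D]
  [∀ n : ℤ, (shiftFunctor D n).Additive] [Pretriangulated D]
  (Φ : C ⥤ D) [Φ.CommShift ℤ] [Φ.IsTriangulated]

/-- `Φ` is bijective on `X ⟶ Y`. -/
def HomBij (X Y : C) : Prop := Function.Bijective (fun φ : X ⟶ Y => Φ.map φ)

variable {Φ}

omit [HasZeroObject C] [HasShift C ℤ] [Preadditive C] [∀ n : ℤ, (shiftFunctor C n).Additive]
  [Pretriangulated C] [HasZeroObject D] [HasShift D ℤ] [Preadditive D]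
  [∀ n : ℤ, (shiftFunctor D n).Additive] [Pretriangulated D] [Φ.CommShift ℤ] [Φ.IsTriangulated] in
theorem HomBij.of_iso {X Y X' Y' : C} (e : X ≅ X') (e' : Y ≅ Y') (h : HomBij Φ X Y) :
    HomBij Φ X' Y' := by
  have : (fun φ : X' ⟶ Y' => Φ.map φ) =
      (Iso.homCongr (Φ.mapIso e) (Φ.mapIso e')) ∘ (fun φ : X ⟶ Y => Φ.map φ) ∘
        (Iso.homCongr e e').symm := by
    funext φ
    simp [Iso.homCongr]
  rw [HomBij, this]
  exact (Equiv.bijective _).comp (h.comp (Equiv.bijective _))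

omit [HasZeroObject C] [Preadditive C] [∀ n : ℤ, (shiftFunctor C n).Additive] [Pretriangulated C]
  [HasZeroObject D] [Preadditive D] [∀ n : ℤ, (shiftFunctor D n).Additive] [Pretriangulated D]
  [Φ.IsTriangulated] in
theorem HomBij.shift {X Y : C} (h : HomBij Φ X Y) (a : ℤ) : HomBij Φ (X⟦a⟧) (Y⟦a⟧) := by
  have hs : Function.Bijective (fun φ : X ⟶ Y => φ⟦a⟧') :=
    ⟨(shiftFunctor C a).map_injective, (shiftFunctor C a).map_surjective⟩
  have hs' : Function.Bijective (fun φ : Φ.obj X ⟶ Φ.obj Y => φ⟦a⟧') :=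
    ⟨(shiftFunctor D a).map_injective, (shiftFunctor D a).map_surjective⟩
  refine (Function.Bijective.of_comp_iff _ hs).1 ?_
  have : (fun φ : X⟦a⟧ ⟶ Y⟦a⟧ => Φ.map φ) ∘ (fun φ : X ⟶ Y => φ⟦a⟧') =
      (Iso.homCongr ((Φ.commShiftIso a).app X).symm ((Φ.commShiftIso a).app Y).symm) ∘
        (fun φ : Φ.obj X ⟶ Φ.obj Y => φ⟦a⟧') ∘ (fun φ : X ⟶ Y => Φ.map φ) := by
    funext φ
    have := (Φ.commShiftIso a).inv.naturality φ
    simp only [Functor.comp_map] at this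
    simp [Iso.homCongr, this]
  rw [this]
  exact (Equiv.bijective _).comp (hs'.comp h)

omit [HasShift C ℤ] [∀ n : ℤ, (shiftFunctor C n).Additive] [Pretriangulated C]
  [HasShift D ℤ] [∀ n : ℤ, (shiftFunctor D n).Additive] [Pretriangulated D]
  [Φ.CommShift ℤ] [Φ.IsTriangulated] [HasZeroObject C] [HasZeroObject D] in
theorem homBij_of_isZero [Φ.PreservesZeroMorphisms] {X Y : C} (h : IsZero X ∨ IsZero Y) :
    HomBij Φ X Y := by
  rcases h with h | h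
  · exact ⟨fun a b _ => h.eq_of_src a b, fun g => ⟨0, (Φ.map_isZero h).eq_of_src _ _⟩⟩
  · exact ⟨fun a b _ => h.eq_of_tgt a b, fun g => ⟨0, (Φ.map_isZero h).eq_of_tgt _ _⟩⟩

variable {T : Triangle C} (hT : T ∈ distTriang C)

include hT in
/-- Five lemma in the target. -/
theorem homBij_obj₂_right {K : C} (h₁ : HomBij Φ K T.obj₁) (h₃ : HomBij Φ K T.obj₃)
    (h₀ : HomBij Φ K (T.obj₃⟦(-1 : ℤ)⟧)) (h₄ : HomBij Φ K (T.obj₁⟦(1 : ℤ)⟧)) :
    HomBij Φ K T.obj₂ := by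
  constructor
  · intro φ ψ hφψ
    rw [← sub_eq_zero]
    have h : Φ.map (φ - ψ) = 0 := by rw [Φ.map_sub, sub_eq_zero]; exact hφψ
    have e : (φ - ψ) ≫ T.mor₂ = 0 := h₃.1 (by
      show Φ.map _ = Φ.map 0
      rw [Φ.map_comp, h, zero_comp, Φ.map_zero])
    obtain ⟨ρ, hρ⟩ := Triangle.coyoneda_exact₂ T hT (φ - ψ) e
    obtain ⟨χ, hχ⟩ := Triangle.coyoneda_exact₂ _
      (Φ.map_distinguished _ (inv_rot_of_distTriang _ hT)) (Φ.map ρ) (by
        show Φ.map ρ ≫ Φ.map T.invRotate.mor₂ = 0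
        rw [← Φ.map_comp]
        show Φ.map (ρ ≫ T.mor₁) = 0
        rw [← hρ, h])
    obtain ⟨χ', hχ'⟩ : ∃ χ' : K ⟶ T.invRotate.obj₁, Φ.map χ' = χ := h₀.2 χ
    have : ρ = χ' ≫ T.invRotate.mor₁ := h₁.1 (by
      show Φ.map ρ = Φ.map (χ' ≫ T.invRotate.mor₁)
      refine hχ.trans ?_
      rw [← hχ']
      exact (Φ.map_comp χ' T.invRotate.mor₁).symm)
    rw [hρ, this]
    refine (Category.assoc _ _ _).trans ?_
    have h12 : T.invRotate.mor₁ ≫ T.mor₁ = 0 :=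
      comp_distTriang_mor_zero₁₂ _ (inv_rot_of_distTriang _ hT)
    exact (congrArg (χ' ≫ ·) h12).trans comp_zero
  · intro g
    obtain ⟨k, hk⟩ : ∃ k : K ⟶ T.obj₃, Φ.map k = g ≫ Φ.map T.mor₂ := h₃.2 _
    have hk0 : k ≫ T.mor₃ = 0 := h₄.1 (by
      show Φ.map (k ≫ T.mor₃) = Φ.map 0
      have hz : Φ.map T.mor₂ ≫ Φ.map T.mor₃ = 0 := by
        rw [← Φ.map_comp, comp_distTriang_mor_zero₂₃ _ hT, Φ.map_zero]
      rw [Φ.map_comp, Φ.map_zero, hk, Category.assoc, hz, comp_zero])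
    obtain ⟨φ, hφ⟩ := Triangle.coyoneda_exact₃ T hT k hk0
    obtain ⟨ρ, hρ⟩ := Triangle.coyoneda_exact₂ _ (Φ.map_distinguished T hT) (g - Φ.map φ) (by
      show (g - Φ.map φ) ≫ Φ.map T.mor₂ = 0
      rw [Preadditive.sub_comp, ← Φ.map_comp, ← hφ]
      exact sub_eq_zero.2 hk.symm)
    obtain ⟨ρ', hρ'⟩ : ∃ ρ' : K ⟶ T.obj₁, Φ.map ρ' = ρ := h₁.2 ρ
    have hρ2 : g - Φ.map φ = Φ.map ρ' ≫ Φ.map T.mor₁ := by rw [hρ']; exact hρ
    refine ⟨φ + ρ' ≫ T.mor₁, ?_⟩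
    show Φ.map _ = g
    rw [Φ.map_add, Φ.map_comp, ← hρ2]
    abel

include hT in
/-- Five lemma in the source. -/
theorem homBij_obj₂_left {L : C} (h₁ : HomBij Φ T.obj₁ L) (h₃ : HomBij Φ T.obj₃ L)
    (h₀ : HomBij Φ (T.obj₃⟦(-1 : ℤ)⟧) L) (h₄ : HomBij Φ (T.obj₁⟦(1 : ℤ)⟧) L) :
    HomBij Φ T.obj₂ L := by
  constructor
  · intro φ ψ hφψ
    rw [← sub_eq_zero]
    have h : Φ.map (φ - ψ) = 0 := by rw [Φ.map_sub, sub_eq_zero]; exact hφψ
    have e : T.mor₁ ≫ (φ - ψ) = 0 := h₁.1 (by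
      show Φ.map _ = Φ.map 0
      rw [Φ.map_comp, h, comp_zero, Φ.map_zero])
    obtain ⟨ρ, hρ⟩ := Triangle.yoneda_exact₂ T hT (φ - ψ) e
    obtain ⟨χ, hχ⟩ := Triangle.yoneda_exact₂ _
      (Φ.map_distinguished _ (rot_of_distTriang _ hT)) (Φ.map ρ) (by
        show Φ.map T.mor₂ ≫ Φ.map ρ = 0
        rw [← Φ.map_comp, ← hρ, h])
    obtain ⟨χ', hχ'⟩ : ∃ χ' : T.obj₁⟦(1 : ℤ)⟧ ⟶ L, Φ.map χ' = χ := h₄.2 χ
    have : ρ = T.mor₃ ≫ χ' := h₃.1 (by
      show Φ.map ρ = Φ.map (T.mor₃ ≫ χ')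
      refine hχ.trans ?_
      rw [← hχ']
      exact (Φ.map_comp T.mor₃ χ').symm)
    rw [hρ, this, ← Category.assoc, comp_distTriang_mor_zero₂₃ _ hT, zero_comp]
  · intro g
    obtain ⟨k, hk⟩ : ∃ k : T.obj₁ ⟶ L, Φ.map k = Φ.map T.mor₁ ≫ g := h₁.2 _
    obtain ⟨φ, hφ⟩ : ∃ φ : T.obj₂ ⟶ L, k = T.mor₁ ≫ φ := by
      refine Triangle.yoneda_exact₂ _ (inv_rot_of_distTriang _ hT) k ?_
      refine h₀.1 ?_
      show Φ.map (T.invRotate.mor₁ ≫ k) = Φ.map 0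
      have hz : Φ.map T.invRotate.mor₁ ≫ Φ.map T.mor₁ = 0 := by
        rw [← Φ.map_comp]
        exact (congrArg Φ.map (comp_distTriang_mor_zero₁₂ _ (inv_rot_of_distTriang _ hT))).trans
          (Φ.map_zero _ _)
      refine (Φ.map_comp _ _).trans ?_
      rw [Φ.map_zero]
      refine (congrArg (Φ.map T.invRotate.mor₁ ≫ ·) hk).trans ?_
      exact (Category.assoc _ _ _).symm.trans ((congrArg (· ≫ g) hz).trans zero_comp)
    obtain ⟨ρ, hρ⟩ := Triangle.yoneda_exact₂ _ (Φ.map_distinguished T hT) (g - Φ.map φ) (by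
      show Φ.map T.mor₁ ≫ (g - Φ.map φ) = 0
      rw [Preadditive.comp_sub, ← Φ.map_comp, ← hφ]
      exact sub_eq_zero.2 hk.symm)
    obtain ⟨ρ', hρ'⟩ : ∃ ρ' : T.obj₃ ⟶ L, Φ.map ρ' = ρ := h₃.2 ρ
    have hρ2 : g - Φ.map φ = Φ.map T.mor₂ ≫ Φ.map ρ' := by rw [hρ']; exact hρ
    refine ⟨φ + T.mor₂ ≫ ρ', ?_⟩
    show Φ.map _ = g
    rw [Φ.map_add, Φ.map_comp, ← hρ2]
    abel

theorem HomBij.shift_right_iff {X Y : C} (a : ℤ) (h : HomBij Φ X (Y⟦-a⟧)) :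
    HomBij Φ (X⟦a⟧) Y :=
  (h.shift a).of_iso (Iso.refl _) ((shiftFunctorCompIsoId C (-a) a (neg_add_cancel a)).app Y)

end

theorem comp_inv_hom_aux {C : Type u₁} [Category.{v₁} C] {P Q R S U : C} (a : P ⟶ Q) (b : Q ⟶ R)
    (c : R ⟶ S) (e : U ≅ S) : (a ≫ b ≫ c ≫ e.inv) ≫ e.hom = (a ≫ b) ≫ c := by
  simp

open DerivedCategory
open scoped ZeroObject

variable {A : Type u₁} [Category.{v₁} A] [Abelian A] [HasDerivedCategory.{w₁} A]
  {B : Type u₂} [Category.{v₂} B] [Abelian B] [HasDerivedCategory.{w₂} B]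
  {Φ : DerivedCategory A ⥤ DerivedCategory B} [Φ.CommShift ℤ] [Φ.IsTriangulated]

/-- Dévissage of full faithfulness. -/
theorem homBij_of_bounded (P : ObjectProperty A)
    (h : ∀ F G : A, P F → P G → ∀ n : ℤ,
      HomBij Φ ((singleFunctor A 0).obj F) (((singleFunctor A 0).obj G)⟦n⟧))
    (K L : DerivedCategory A) (hK : TStructure.t.bounded K) (hL : TStructure.t.bounded L)
    (hPK : ∀ q, P ((homologyFunctor A q).obj K)) (hPL : ∀ q, P ((homologyFunctor A q).obj L)) :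
    HomBij Φ K L := by
  let R : DerivedCategory A → ObjectProperty (DerivedCategory A) := fun X Y =>
    ∀ m : ℤ, HomBij Φ X (Y⟦m⟧)
  have hcl : ∀ X, TriClosed (R X) := fun X =>
    { zero := fun Y hY m => homBij_of_isZero (Or.inr ((shiftFunctor _ m).map_isZero hY))
      iso := fun e hY m => (hY m).of_iso (Iso.refl _) ((shiftFunctor _ m).mapIso e)
      ext := fun T hT h₁ h₃ m => by
        refine homBij_obj₂_right (Triangle.shift_distinguished T hT m) (h₁ m) (h₃ m) ?_ ?_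
        · exact (h₃ (m + -1)).of_iso (Iso.refl _) ((shiftFunctorAdd _ m (-1)).app T.obj₃)
        · exact (h₁ (m + 1)).of_iso (Iso.refl _) ((shiftFunctorAdd _ m 1).app T.obj₁) }
  have hcl' : TriClosed (fun X => R X L) :=
    { zero := fun X hX m => homBij_of_isZero (Or.inl hX)
      iso := fun e hX m => (hX m).of_iso e (Iso.refl _)
      ext := fun T hT h₁ h₃ m => by
        refine homBij_obj₂_left hT (h₁ m) (h₃ m) ?_ ?_
        · exact HomBij.shift_right_iff (-1) ((h₃ (m + -(-1))).of_iso (Iso.refl _)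
            ((shiftFunctorAdd _ m (-(-1))).app L))
        · exact HomBij.shift_right_iff 1 ((h₁ (m + -1)).of_iso (Iso.refl _)
            ((shiftFunctorAdd _ m (-1)).app L)) }
  obtain ⟨⟨a, ha⟩, b, hb⟩ := hK
  obtain ⟨⟨a', ha'⟩, b', hb'⟩ := hL
  have hsingle : ∀ (F : A) (n : ℤ) , P F → R ((singleFunctor A n).obj F) L := by
    intro F n hF
    refine (hcl _).of_bounded a' (b' + 1 - a').toNat L ha'
      (by have : L.IsLE b' := hb'; exact TStructure.t.isLE_of_le L b' _ (by omega)) fun k m => ?_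
    have h1 := ((h F _ hF (hPL k) (-k + m + n)).shift (-n))
    refine h1.of_iso (((singleFunctors A).shiftIso (-n) n 0 (by omega)).app F) ?_
    exact ((shiftFunctorAdd' (DerivedCategory A) (-k + m + n) (-n) (-k + m) (by omega)).symm.app _) ≪≫
      (shiftFunctorAdd' (DerivedCategory A) (-k) m (-k + m) rfl).app _ ≪≫
      (shiftFunctor _ m).mapIso (((singleFunctors A).shiftIso (-k) k 0 (by omega)).app _)
  have hKL : R K L := hcl'.of_bounded a (b + 1 - a).toNat K ha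
    (by have : K.IsLE b := hb; exact TStructure.t.isLE_of_le K b _ (by omega))
    fun n => hsingle _ n (hPK n)
  exact (hKL 0).of_iso (Iso.refl _) ((shiftFunctorZero (DerivedCategory A) ℤ).app L)

/-- Dévissage of essential surjectivity. -/
theorem exists_preimage_of_bounded (P : ObjectProperty A) (P' : ObjectProperty B)
    [WSerre.IsWeakSerre P] [WSerre.IsWeakSerre P']
    (h : ∀ F G : A, P F → P G → ∀ n : ℤ,
      HomBij Φ ((singleFunctor A 0).obj F) (((singleFunctor A 0).obj G)⟦n⟧))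
    (hess : ∀ G : B, P' G → ∀ n : ℤ, ∃ K, WSerre.cohInBdd P K ∧
      Nonempty (Φ.obj K ≅ (singleFunctor B n).obj G))
    (M : DerivedCategory B) (hM : WSerre.cohInBdd P' M) :
    ∃ K, WSerre.cohInBdd P K ∧ Nonempty (Φ.obj K ≅ M) := by
  obtain ⟨hPM, ⟨a, ha⟩, b, hb⟩ := hM
  have hS : TriClosed (fun M : DerivedCategory B =>
      ∃ K, WSerre.cohInBdd P K ∧ Nonempty (Φ.obj K ≅ M)) :=
    { zero := fun M hM => ⟨0, ⟨cohIn_of_isZero P (isZero_zero _),
          ⟨0, TStructure.t.isGE_of_isZero (isZero_zero _) 0⟩,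
          ⟨0, TStructure.t.isLE_of_isZero (isZero_zero _) 0⟩⟩,
          ⟨(Φ.map_isZero (isZero_zero _)).iso hM⟩⟩
      iso := fun e ⟨K, hK, ⟨e'⟩⟩ => ⟨K, hK, ⟨e' ≪≫ e⟩⟩
      ext := fun T hT ⟨K₁, ⟨c₁, ⟨⟨a₁, g₁⟩, ⟨b₁, l₁⟩⟩⟩, ⟨e₁⟩⟩ ⟨K₃, ⟨c₃, ⟨⟨a₃, g₃⟩, ⟨b₃, l₃⟩⟩⟩, ⟨e₃⟩⟩ => by
        let s := shiftFunctor (DerivedCategory A) (-1 : ℤ)
        have hb₁ : TStructure.t.bounded K₁ := ⟨⟨a₁, g₁⟩, ⟨b₁, l₁⟩⟩
        have hb₃ : TStructure.t.bounded (s.obj K₃) := ⟨⟨a₃ + 1, by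
          have := g₃; exact TStructure.t.isGE_shift K₃ a₃ (-1) (a₃ + 1) (by omega)⟩, ⟨b₃ + 1, by
          have := l₃; exact TStructure.t.isLE_shift K₃ b₃ (-1) (b₃ + 1) (by omega)⟩⟩
        obtain ⟨δ, hδ⟩ := (homBij_of_bounded P h (s.obj K₃) K₁ hb₃ hb₁ (cohIn_shift P c₃ _) c₁).2
          (((Φ.commShiftIso (-1 : ℤ)).app K₃).hom ≫ (shiftFunctor _ (-1 : ℤ)).map e₃.hom ≫
            T.invRotate.mor₁ ≫ e₁.inv)
        replace hδ : Φ.map δ = _ := hδ
        obtain ⟨K₂, f, g, hK⟩ := distinguished_cocone_triangle δ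
        let U := Triangle.mk δ f g
        let e := isoTriangleOfIso₁₂ (Φ.mapTriangle.obj U) T.invRotate
          (Φ.map_distinguished _ hK) (inv_rot_of_distTriang _ hT)
          ((Φ.commShiftIso (-1 : ℤ)).app K₃ ≪≫ (shiftFunctor _ (-1 : ℤ)).mapIso e₃) e₁ (by
            show Φ.map δ ≫ e₁.hom = (((Φ.commShiftIso (-1 : ℤ)).app K₃).hom ≫
              (shiftFunctor _ (-1 : ℤ)).map e₃.hom) ≫ T.invRotate.mor₁
            rw [hδ]
            exact comp_inv_hom_aux _ _ _ e₁)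
        have hU : U.rotate ∈ distTriang (DerivedCategory A) := rot_of_distTriang _ hK
        have c₃' : WSerre.cohIn P U.rotate.obj₃ :=
          cohIn_shift P (cohIn_shift P c₃ _) _
        have e' : U.rotate.obj₃ ≅ K₃ :=
          (shiftFunctorCompIsoId (DerivedCategory A) (-1 : ℤ) 1 (by omega)).app K₃
        refine ⟨K₂, ⟨cohIn_obj₂ P U.rotate hU c₁ c₃',
          ⟨min a₁ a₃, ?_⟩, ⟨max b₁ b₃, ?_⟩⟩, ⟨Triangle.π₃.mapIso e⟩⟩
        · exact TStructure.t.isGE₂ U.rotate hU _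
            (have := g₁; TStructure.t.isGE_of_ge K₁ (min a₁ a₃) a₁ (min_le_left _ _))
            (have := g₃; have := TStructure.t.isGE_of_ge K₃ (min a₁ a₃) a₃ (min_le_right _ _)
              TStructure.t.isGE_of_iso e'.symm _)
        · exact TStructure.t.isLE₂ U.rotate hU _
            (have := l₁; TStructure.t.isLE_of_le K₁ b₁ (max b₁ b₃) (le_max_left _ _))
            (have := l₃; have := TStructure.t.isLE_of_le K₃ b₃ (max b₁ b₃) (le_max_right _ _)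
              TStructure.t.isLE_of_iso e'.symm _) }
  refine hS.of_bounded a (b + 1 - a).toNat M ha
    (by have : M.IsLE b := hb; exact TStructure.t.isLE_of_le M b _ (by omega)) fun n => hess _ (hPM n) n

end Groth.Agent.DTrunc
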