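import Groth.Agent.CohDerLib.RFLim.Main
import Groth.Agent.KFlat.Deriv
import Groth.Agent.KFlat.CxAdj
import Groth.Agent.DHA.KInj.Products
import Mathlib.CategoryTheory.Functor.Derived.Adjunction

/-!
# A derived direct image is a right adjoint when the left adjoint has resolutions
-/

set_option autoImplicit false

universe w w' v u v' u'

open CategoryTheory CategoryTheory.Limits DerivedCategory

namespace Groth.Agent.DTrunc.LeftResAdj

open Groth.Agent.CohDerLib.RFLim Groth.Agent.KFlat

variable {B : Type u} [Category.{v} B] [Abelian B] [IsGrothendieckAbelian.{v} B]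
  [HasDerivedCategory.{w} B] {A : Type u'} [Category.{v'} A] [Abelian A] [HasDerivedCategory.{w'} A]
  {L : A ⥤ B} [L.Additive] (R : B ⥤ A) [R.Additive]
  [(R.mapHomotopyCategory (ComplexShape.up ℤ) ⋙ Qh).HasRightDerivedFunctor
    (HomotopyCategory.quasiIso B (ComplexShape.up ℤ))]

omit [IsGrothendieckAbelian.{v} B] [(R.mapHomotopyCategory (ComplexShape.up ℤ) ⋙ Qh).HasRightDerivedFunctor
    (HomotopyCategory.quasiIso B (ComplexShape.up ℤ))] in
/-- K-injective complexes are good for the termwise direct image. -/
theorem isGood (I : CochainComplex B ℤ) [I.IsKInjective] : RightDerived.IsGood Q (FQ R) I where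
  fac K φ := DHA.KInj.Q_map_surjective K I φ
  eq K g g' h := by
    change Q.map ((R.mapHomologicalComplex _).map g) = Q.map ((R.mapHomologicalComplex _).map g')
    obtain ⟨k⟩ := DHA.KInj.homotopy_of_Q_map_eq h
    have hq := HomotopyCategory.eq_of_homotopy _ _ (R.mapHomotopy k)
    have e := (quotientCompQhIso A).hom.naturality ((R.mapHomologicalComplex (ComplexShape.up ℤ)).map g)
    have e' := (quotientCompQhIso A).hom.naturality ((R.mapHomologicalComplex (ComplexShape.up ℤ)).map g')
    simp only [Functor.comp_map] at e e'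
    rw [hq, e'] at e
    exact ((cancel_epi _).1 e).symm

/-- If the left adjoint `L` has resolutions inverting quasi-isomorphisms, the derived functor they give is
left adjoint to the total right derived functor of `R`. -/
noncomputable def derivedAdj (adj : L ⊣ R) {res : CochainComplex A ℤ ⥤ CochainComplex A ℤ} {ψ : res ⟶ 𝟭 _}
    (h : Deriv.Resolves (HomologicalComplex.quasiIso A (ComplexShape.up ℤ)) res ψ
      (L.mapHomologicalComplex (ComplexShape.up ℤ) ⋙ Q)) :
    Deriv.derived (L := Q) h ⊣ RF R :=
  let W₁ := HomologicalComplex.quasiIso A (ComplexShape.up ℤ)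
  let W₂ := HomologicalComplex.quasiIso B (ComplexShape.up ℤ)
  let G' := Deriv.derived (L := Q) h
  let α := Deriv.counit (L := Q) h
  have hα : ∀ X, IsIso (α.app (res.obj X)) := fun X => by
    have := h.fix X
    exact Deriv.isIso_counit_app (L := Q) h (res.obj X)
  have : G'.IsLeftDerivedFunctor α W₁ := ⟨Deriv.isRightKanExtension_derived h⟩
  have h' : Deriv.Resolves W₁ res ψ ((L.mapHomologicalComplex (ComplexShape.up ℤ) ⋙ Q) ⋙ RF R) :=
    { mem := h.mem
      inverted := fun K K' s hs => @Functor.map_isIso _ _ _ _ _ _ (RF R) _ (h.inverted s hs)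
      fix := fun K => @Functor.map_isIso _ _ _ _ _ _ (RF R) _ (h.fix K) }
  have : (G' ⋙ RF R).IsLeftDerivedFunctor
      ((Functor.associator _ _ _).inv ≫ Functor.whiskerRight α (RF R)) W₁ :=
    ⟨Deriv.isRightKanExtension_of_isIso h' _ fun K => by
      have := hα K
      change IsIso (𝟙 _ ≫ (RF R).map (α.app (res.obj K)))
      infer_instance⟩
  let inj := DHA.KInj.resolution B
  let ι := DHA.KInj.resolutionι B
  have hι : ∀ K, IsIso (Q.map (ι.app K)) := fun K =>
    (isIso_Q_map_iff_quasiIso _ _).2 inferInstance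
  have : (RF R).IsRightDerivedFunctor (toRF R) W₂ :=
    RightDerived.isRightDerivedFunctor_of_isIso W₂ _ _ fun K =>
      ⟨inj.obj K, ι.app K, isGood R _, hι K, isIso_toRF R _⟩
  have : (RF R ⋙ G').IsRightDerivedFunctor
      (Functor.whiskerRight (toRF R) G' ≫ (Functor.associator _ _ _).hom) W₂ :=
    RightDerived.isRightDerivedFunctor_of_isIso W₂ _ _ fun K => by
      refine ⟨inj.obj K, ι.app K, (isGood R _).comp G', hι K, ?_⟩
      have := isIso_toRF R (inj.obj K)
      change IsIso (G'.map ((toRF R).app (inj.obj K)) ≫ 𝟙 _)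
      infer_instance
  Adjunction.derived (CxAdj.mapCx adj (ComplexShape.up ℤ)) W₁ W₂ α (toRF R)

/-- If the left adjoint `L` has resolutions inverting quasi-isomorphisms, the total right derived functor
of `R` is a right adjoint. -/
theorem isRightAdjoint (adj : L ⊣ R) {res : CochainComplex A ℤ ⥤ CochainComplex A ℤ} {ψ : res ⟶ 𝟭 _}
    (h : Deriv.Resolves (HomologicalComplex.quasiIso A (ComplexShape.up ℤ)) res ψ
      (L.mapHomologicalComplex (ComplexShape.up ℤ) ⋙ Q)) :
    (RF R).IsRightAdjoint :=
  (derivedAdj R adj h).isRightAdjoint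

end Groth.Agent.DTrunc.LeftResAdj
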